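import Cfsg.Agent.H619.R4.RankTab
import Cfsg.Agent.H661.SporConway
import Cfsg.Agent.H661.SporRuTits
import Cfsg.Agent.H690.Spor.Ru
import Cfsg.Agent.SporadicStructure.Co2RankThree
import Cfsg.Agent.S1689
import Cfsg.Agent.S2070
import Cfsg.Agent.S2077
import Cfsg.Agent.S2080

/-!
# Rows `Co2`, `Ru`, `Fi23` (S4554, helper619)
-/

set_option autoImplicit false

open Cfsg

namespace Cfsg.Agent.H619.R4

open Cfsg.Agent.H722.RealP (HasReal)

universe u v

theorem hasReal_seven_ru {S : Type*} [Group S] [Finite S] (h : Spor.IsoRu S) : HasReal 7 S := by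
  obtain ⟨C, hsz, hL⟩ := Cfsg.Agent.CTwoTab.Ru.exists_core_sz h
  have hs : IsSimpleGroup ↥C.L := Cfsg.Agent.CTwoTab.Ru.simple_sz hsz
  have h7 : HasReal 7 ↥C.L := by
    refine Cfsg.Agent.H661.Spor.hasReal_coprime (k := 1) (m := 3) (by norm_num) (by norm_num) ?_ ?_ ?_ ?_
    · rw [hL]; norm_num
    · rw [hL]; norm_num
    · rw [hL]; norm_num
    · rw [hL]; norm_num
  exact h7.of_subgroup

theorem finite_of_card {S : Type*} [Group S] {n : ℕ} (h : Nat.card S = n) (hn : n ≠ 0) : Finite S :=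
  Nat.finite_of_card_ne_zero (by rw [h]; exact hn)

/-- **Ru** -/
theorem row_ru {S : Type u} [Group S] (h : Spor.IsoRu S) : Row S := by
  have hc := NotCT.Orders.ru h
  have hfin : Finite S := finite_of_card hc (by norm_num)
  obtain ⟨e⟩ := h
  obtain ⟨R, hR⟩ := Cfsg.Agent.H690.Spor.Ru.r3
  have hfH : Finite Cfsg.Agent.SporadicB.RuOrder.H := Finite.of_equiv _ (e.trans Cfsg.Agent.RuLat.Main.equiv).toEquiv
  have h2 := rc_ru hR
  refine row_one_prime (p := 7) ?_ (by norm_num) (by norm_num) ?_ (hasReal_seven_ru ⟨e⟩)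
    (h2.2.congr (e.trans Cfsg.Agent.RuLat.Main.equiv).symm) (by norm_num)
  · rw [index_congr e]
    exact Cfsg.Agent.S2077.result
  · rw [hc]
    norm_num

/-- **Co2** -/
theorem row_co2 {S : Type u} [Group S] (h : Spor.IsoCo2 S) : Row S := by
  have hc := NotCT.Orders.co2 h
  have hfin : Finite S := finite_of_card hc (by norm_num)
  obtain ⟨e⟩ := h
  obtain ⟨H, -, hi, q₁, q₂, ho1, ho2⟩ := Cfsg.Agent.SporadicStructure.Co2RankThree.rank_three e
  obtain ⟨R, hR⟩ := Cfsg.Agent.H690.Spor.RankThree.R3.of_index H (k := 891) (l := 1408) hi ho1 ho2 (by norm_num)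
    (by norm_num) (by norm_num)
  have h2 := rc_co2 hR
  refine row_one_prime (p := 11) ?_ (by norm_num) (by norm_num) ?_
    (Cfsg.Agent.H661.Spor.Eleven.hasReal_co2.map_equiv e.symm) h2.1 (by norm_num)
  · rw [index_congr e]
    exact Cfsg.Agent.S2070.result
  · rw [hc]
    norm_num

/-- **Fi23** -/
theorem row_fi23 {S : Type u} [Group S] [IsSimpleGroup S] (hna : ¬ IsMulCommutative S) (h : Spor.IsoFi23 S) :
    Row S := by
  have hc := NotCT.Orders.fi23 h
  have hfin : Finite S := finite_of_card hc (by norm_num)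
  obtain ⟨e⟩ := h
  have hfF : Finite Spor.Fi23 := Finite.of_equiv _ e.toEquiv
  obtain ⟨hi, q₁, q₂, ho1, ho2⟩ := Cfsg.Agent.S1689.result
  obtain ⟨R, hR⟩ := Cfsg.Agent.H690.Spor.RankThree.R3.of_index _ (k := 3510) (l := 28160) hi ho1 ho2 (by norm_num)
    (by norm_num) (by norm_num)
  have h2 := rc_fi23 hR (by
    rw [NotCT.Orders.fi23 ⟨MulEquiv.refl _⟩]
    norm_num)
  refine row_one_even hna ?_ (a := 782) (b := 30888) (by decide) (by decide) (by norm_num) (h2.1.congr e.symm)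
    (h2.2.congr e.symm)
  rw [index_congr e]
  exact Cfsg.Agent.S2080.result

end Cfsg.Agent.H619.R4
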